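import Cfsg.Agent.Lib.HeAut.Label

/-! Certificates listing every element intertwining two given elements of the Held group. -/

set_option autoImplicit false

namespace CfsgLib.HeAut

open CfsgLib.CosetEnum CfsgLib.HeWord

/-- Letters of a word are generators. -/
noncomputable def wordB (w : List ℕ) : Bool := w.all fun x => Nat.blt x 7

theorem wordB_spec {w : List ℕ} (h : wordB w = true) : ∀ x ∈ w, x < 7 := fun x hx => by
  have := List.all_eq_true.1 h x hx
  rwa [Nat.blt_eq] at this

/-- Two words have equal values. -/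
noncomputable def eqW (u w : List ℕ) : Bool :=
  wordB u && wordB w && [0, 46, 1, 23].all fun k =>
    Nat.beq (scan He.table u.reverse k) (scan He.table w.reverse k)

theorem eqW_spec {u w : List ℕ} (h : eqW u w = true) : ev u = ev w := by
  simp only [eqW, Bool.and_eq_true, List.all_eq_true, Nat.beq_eq] at h
  refine eq_of_base _ _ fun k hk hk' => Fin.ext ?_
  rw [ev_apply _ (wordB_spec h.1.1), ev_apply _ (wordB_spec h.1.2)]
  exact h.2 k hk

theorem ev_append (u w : List ℕ) : ev (u ++ w) = ev u * ev w := by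
  simp [ev, List.map_append, List.prod_append]

/-- Two words have different values. -/
noncomputable def neW (u w : List ℕ) : Bool :=
  wordB u && wordB w && [0, 46, 1, 23].any fun k =>
    !Nat.beq (scan He.table u.reverse k) (scan He.table w.reverse k)

theorem neW_spec {u w : List ℕ} (h : neW u w = true) : ev u ≠ ev w := by
  simp only [neW, Bool.and_eq_true, List.any_eq_true, Bool.not_eq_true', List.mem_cons, List.not_mem_nil,
    or_false] at h
  obtain ⟨⟨hu, hw⟩, k, hk, hne⟩ := h
  intro e
  have hk' : k < 2058 := by omega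
  have := ev_apply u (wordB_spec hu) ⟨k, hk'⟩
  rw [e, ev_apply w (wordB_spec hw) ⟨k, hk'⟩] at this
  simp [this] at hne

/-- The labels seen from a point. -/
noncomputable def vecR (a : ℕ) (cs : List ℕ) : List ℕ := cs.map fun c => lbl a c

theorem cyc_moveR {v w g : Cfsg.Spor.He} (hg : g * v = w * g) {rv rw' : List ℕ}
    (hv : ∀ k : Fin 2058, ((He.π v k : Fin 2058) : ℕ) = scan He.table rv k)
    (hw : ∀ k : Fin 2058, ((He.π w k : Fin 2058) : ℕ) = scan He.table rw' k) :
    ∀ (m : ℕ) (a c : Fin 2058),
      vecR (He.π g a : Fin 2058) (cyc rw' m (He.π g c : Fin 2058)) = vecR a (cyc rv m c)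
  | 0, _, _ => by simp only [cyc_zero, vecR, List.map_nil]
  | m + 1, a, c => by
    rw [cyc_succ, cyc_succ, vecR, vecR, List.map_cons, List.map_cons, lbl_move, ← hw, ← hv]
    refine congrArg (List.cons _) ?_
    rw [← Equiv.Perm.mul_apply, ← map_mul, ← hg, map_mul, Equiv.Perm.mul_apply]
    exact cyc_moveR hg hv hw m a (He.π v c)

/-- All labels seen from a point match. -/
noncomputable def selfB (a : ℕ) : List ℕ → List ℕ → Bool
  | c :: cs, l :: ls => Nat.beq (lbl a c) l && selfB a cs ls
  | _, _ => true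

theorem selfB_vecR (a : ℕ) : ∀ cs : List ℕ, selfB a cs (vecR a cs) = true
  | [] => rfl
  | c :: cs => by
    rw [vecR, List.map_cons, selfB, Bool.and_eq_true, Nat.beq_eq]
    exact ⟨rfl, selfB_vecR a cs⟩

/-- A certificate for the elements intertwining two words. -/
structure Inter where
  /-- the first word -/
  vW : List ℕ
  /-- the second word -/
  wW : List ℕ
  /-- the length of the cycle of the first point -/
  m : ℕ
  /-- the cycle of the first point -/
  cv : List ℕ
  /-- its labels from the first point -/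
  lv : List ℕ
  /-- base points with their labels from the cycle -/
  lb : List (ℕ × List ℕ)
  /-- the intertwining elements with their images of the first point -/
  els : List (ℕ × List ℕ)
  /-- the excluded images: image, base point, image cycle, position -/
  bads : List (ℕ × ℕ × List ℕ × ℕ)

variable (C : Inter)

/-- Validity of the header. -/
noncomputable def Inter.headB : Bool :=
  wordB C.vW && wordB C.wW && listEq (cyc C.vW.reverse C.m 0) C.cv && listEq (vecR 0 C.cv) C.lv &&
    [46, 1, 23].all (fun b => C.lb.any fun p => Nat.beq p.1 b) &&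
    C.lb.all (fun p => Nat.blt p.1 2058 && listEq (vecL C.cv p.1) p.2)

/-- The base points are determined by their labels. -/
noncomputable def Inter.uniqB (k : ℕ) : Bool :=
  C.lb.all fun p => Nat.beq k p.1 || !matchB C.cv p.2 k

/-- Every possible image of the first point is listed. -/
noncomputable def Inter.screenB (k : ℕ) : Bool :=
  !selfB k (cyc C.wW.reverse C.m k) C.lv || C.els.any (fun e => Nat.beq e.1 k) ||
    C.bads.any fun e => Nat.beq e.1 k

/-- The listed elements intertwine. -/
noncomputable def Inter.elsB : Bool :=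
  C.els.all fun e => wordB e.2 && Nat.beq (scan He.table e.2.reverse 0) e.1 &&
    eqW (e.2 ++ C.vW) (C.wW ++ e.2)

/-- An excluded image has a base point without image. -/
noncomputable def Inter.badB (e : ℕ × ℕ × List ℕ × ℕ) : Bool :=
  listEq (cyc C.wW.reverse C.m e.1) e.2.2.1 && Nat.blt e.2.2.2 C.m &&
    C.lb.any fun p => Nat.beq p.1 e.2.1 &&
      allFrom (fun q => !Nat.beq (He.lab.get 20 q) (p.2.getD e.2.2.2 0) ||
        strict (push 64 (e.2.2.1.getD e.2.2.2 0) q) fun b => !matchB e.2.2.1 p.2 b) 2058 0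

/-- The whole certificate. -/
structure Inter.Valid : Prop where
  head : C.headB = true
  uniq : ∀ k < 2058, C.uniqB k = true
  screen : ∀ k < 2058, C.screenB k = true
  els : C.elsB = true
  bads : C.bads.all C.badB = true

theorem cyc_length (r : List ℕ) : ∀ m a : ℕ, (cyc r m a).length = m
  | 0, a => by rw [cyc_zero]; rfl
  | m + 1, a => by rw [cyc_succ, List.length_cons, cyc_length r m]

theorem cyc_lt {v : Cfsg.Spor.He} {r : List ℕ}
    (hv : ∀ k : Fin 2058, ((He.π v k : Fin 2058) : ℕ) = scan He.table r k) :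
    ∀ (m : ℕ) (a : Fin 2058), ∀ c ∈ cyc r m a, c < 2058
  | 0, a => by rw [cyc_zero]; simp
  | m + 1, a => by
    rw [cyc_succ, ← hv]
    exact List.forall_mem_cons.2 ⟨a.2, cyc_lt hv m _⟩

theorem Inter.complete (hC : C.Valid) {g : Cfsg.Spor.He} (hg : g * ev C.vW = ev C.wW * g) :
    ∃ e ∈ C.els, g = ev e.2 := by
  have hh := hC.head
  simp only [Inter.headB, Bool.and_eq_true, List.all_eq_true, List.any_eq_true, Nat.beq_eq, Nat.blt_eq] at hh
  obtain ⟨⟨⟨⟨⟨hvW, hwW⟩, hcv⟩, hlv⟩, hbase⟩, hlb⟩ := hh
  have hcv := listEq_eq _ _ hcv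
  have hlv := listEq_eq _ _ hlv
  have hv := fun k => ev_apply C.vW (wordB_spec hvW) k
  have hw := fun k => ev_apply C.wW (wordB_spec hwW) k
  let z : Fin 2058 := ⟨0, by omega⟩
  let a := He.π g z
  have hself : vecR (a : ℕ) (cyc C.wW.reverse C.m a) = C.lv := by
    rw [cyc_moveR hg hv hw C.m z z, ← hlv, ← hcv]
  have hs := hC.screen a a.2
  simp only [Inter.screenB, Bool.or_eq_true, Bool.not_eq_true', List.any_eq_true, Nat.beq_eq] at hs
  rcases hs with (hs | ⟨e, he, hea⟩) | ⟨e, he, hea⟩
  · rw [← hself, selfB_vecR] at hs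
    exact absurd hs (by simp)
  · refine ⟨e, he, ?_⟩
    have hel := hC.els
    simp only [Inter.elsB, Bool.and_eq_true, List.all_eq_true, Nat.beq_eq] at hel
    obtain ⟨⟨hew, he0⟩, hcomm⟩ := hel e he
    have hc := eqW_spec hcomm
    rw [ev_append, ev_append] at hc
    set k := ev e.2 with hk
    have hkz : He.π k z = a := Fin.ext (by rw [hk, ev_apply _ (wordB_spec hew)]; exact he0.trans hea)
    have hh' : k⁻¹ * g * ev C.vW = ev C.vW * (k⁻¹ * g) := by
      have hc' : k⁻¹ * ev C.wW = ev C.vW * k⁻¹ := by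
        rw [eq_mul_inv_iff_mul_eq, mul_assoc, ← hc, ← mul_assoc, inv_mul_cancel, one_mul]
      rw [mul_assoc, hg, ← mul_assoc, hc', mul_assoc]
    have hfix : He.π (k⁻¹ * g) z = z := by
      rw [map_mul, Equiv.Perm.mul_apply, map_inv, Equiv.Perm.inv_def, Equiv.symm_apply_eq, hkz]
    have hone : k⁻¹ * g = 1 := eq_of_base _ _ fun b hb hb' => by
      rw [map_one, Equiv.Perm.one_apply]
      rcases List.mem_cons.1 hb with rfl | hb
      · exact hfix
      · obtain ⟨p, hp, hpb⟩ := hbase b hb
        have hvec := cyc_fix hh' hv (m := C.m) (b := ⟨b, hb'⟩) hfix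
        rw [show cyc C.vW.reverse C.m (z : ℕ) = C.cv from hcv] at hvec
        have hlp := listEq_eq _ _ (hlb p hp).2
        rw [hpb] at hlp
        rw [show vecL C.cv ((⟨b, hb'⟩ : Fin 2058) : ℕ) = p.2 from hlp] at hvec
        have hu := List.all_eq_true.1 (hC.uniq _ (He.π (k⁻¹ * g) ⟨b, hb'⟩).2) p hp
        rw [Bool.or_eq_true, Nat.beq_eq, hpb, Bool.not_eq_true'] at hu
        rcases hu with hu | hu
        · exact Fin.ext hu
        · rw [← hvec, matchB_vecL] at hu
          exact absurd hu (by simp)
    exact (inv_mul_eq_one.1 hone).symm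
  · exfalso
    have hb := List.all_eq_true.1 hC.bads e he
    simp only [Inter.badB, Bool.and_eq_true, List.any_eq_true, Nat.beq_eq, Nat.blt_eq] at hb
    obtain ⟨⟨hcs, hi⟩, p, hp, hpe, hall⟩ := hb
    have hcs := listEq_eq _ _ hcs
    rw [hea] at hcs
    let b : Fin 2058 := ⟨p.1, (hlb p hp).1⟩
    have hmove := cyc_move hg hv hw C.m z b
    rw [show cyc C.wW.reverse C.m (He.π g z : Fin 2058) = e.2.2.1 from hcs,
      show cyc C.vW.reverse C.m (z : ℕ) = C.cv from hcv,
      show vecL C.cv (b : ℕ) = p.2 from listEq_eq _ _ (hlb p hp).2] at hmove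
    have hlen : e.2.2.2 < e.2.2.1.length := by rw [← hcs, cyc_length]; exact hi
    have hlt : e.2.2.1[e.2.2.2] < 2058 :=
      cyc_lt hw C.m a _ (by rw [hcs]; exact List.getElem_mem hlen)
    obtain ⟨q, hq, hpush⟩ := exists_of_lbl ⟨_, hlt⟩ (He.π g b)
    have hval : p.2.getD e.2.2.2 0 = lbl e.2.2.1[e.2.2.2] (He.π g b : Fin 2058) := by
      rw [← hmove]
      simp [vecL, hlen]
    have h := allFrom_spec _ _ _ hall q (Nat.zero_le _) (by omega)
    rw [hval, ← hq, Nat.beq_refl, Bool.not_true, Bool.false_or, strict_eq,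
      List.getD_eq_getElem (hn := hlen), hpush, ← hmove, matchB_vecL] at h
    exact Bool.noConfusion h

end CfsgLib.HeAut
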