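import Cfsg.Agent.Lib.HeAut.Data

/-! Kernel checks of the intertwiner certificates in the Held group. -/

set_option autoImplicit false

namespace CfsgLib.HeAut

open CfsgLib.CosetEnum

theorem interZ_uniq_0 : allFrom interZ.uniqB 1024 0 = true := by decide +kernel
theorem interZ_uniq_1 : allFrom interZ.uniqB 1034 1024 = true := by decide +kernel
theorem interZ_uniq : ∀ k < 2058, interZ.uniqB k = true := fun k hk => by
  rcases Nat.lt_or_ge k 1024 with h | h
  · exact allFrom_spec _ _ _ interZ_uniq_0 k (Nat.zero_le _) (by omega)
  · exact allFrom_spec _ _ _ interZ_uniq_1 k h (by omega)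

theorem interZ_screen_0 : allFrom interZ.screenB 1024 0 = true := by decide +kernel
theorem interZ_screen_1 : allFrom interZ.screenB 1034 1024 = true := by decide +kernel
theorem interZ_screen : ∀ k < 2058, interZ.screenB k = true := fun k hk => by
  rcases Nat.lt_or_ge k 1024 with h | h
  · exact allFrom_spec _ _ _ interZ_screen_0 k (Nat.zero_le _) (by omega)
  · exact allFrom_spec _ _ _ interZ_screen_1 k h (by omega)

theorem interZ_valid : interZ.Valid :=
  ⟨by decide +kernel, interZ_uniq, interZ_screen, by decide +kernel, by decide +kernel⟩

end CfsgLib.HeAut
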