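import Cfsg.Agent.Lib.Schur.He.Words
import Cfsg.Agent.Lib.CosetEnum.He.Orbits

/-! Orbital labels on the cosets of the Held group and certificates for intertwining elements. -/

set_option autoImplicit false

namespace CfsgLib.HeAut

open CfsgLib.CosetEnum CfsgLib.HeWord

/-- The letter leading a point towards the first one. -/
noncomputable def sel (a : ℕ) : ℕ := He.par.get 24 a &&& 15

/-- The path from a point reaches the first one. -/
noncomputable def reach : ℕ → ℕ → Bool :=
  Nat.rec (motive := fun _ => ℕ → Bool) (fun a => Nat.beq a 0)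
    (fun _ ih a => Nat.beq a 0 ||
      strict (sel a) fun x => Nat.blt x 7 && strict (act He.table x a) fun a' => ih a')

/-- Pull a point back along the path of another one and read its label. -/
noncomputable def pull : ℕ → ℕ → ℕ → ℕ :=
  Nat.rec (motive := fun _ => ℕ → ℕ → ℕ) (fun _ b => He.lab.get 20 b)
    (fun _ ih a b => bif Nat.beq a 0 then He.lab.get 20 b else
      strict (sel a) fun x => strict (act He.table x a) fun a' => strict (act He.table x b) fun b' => ih a' b')

/-- Push a point forward along the path of another one. -/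
noncomputable def push : ℕ → ℕ → ℕ → ℕ :=
  Nat.rec (motive := fun _ => ℕ → ℕ → ℕ) (fun _ q => q)
    (fun _ ih a q => bif Nat.beq a 0 then q else
      strict (sel a) fun x => strict (act He.table x a) fun a' => strict (ih a' q) fun r => act He.table x r)

theorem reach_zero (a : ℕ) : reach 0 a = Nat.beq a 0 := rfl
theorem reach_succ (f a : ℕ) : reach (f + 1) a =
    (Nat.beq a 0 || (Nat.blt (sel a) 7 && reach f (act He.table (sel a) a))) := by
  show (Nat.beq a 0 || strict (sel a) fun x => Nat.blt x 7 && strict (act He.table x a) fun a' => reach f a') = _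
  rw [strict_eq, strict_eq]
theorem pull_zero (a b : ℕ) : pull 0 a b = He.lab.get 20 b := rfl
theorem pull_succ (f a b : ℕ) : pull (f + 1) a b =
    bif Nat.beq a 0 then He.lab.get 20 b else pull f (act He.table (sel a) a) (act He.table (sel a) b) := by
  show (bif Nat.beq a 0 then He.lab.get 20 b else strict (sel a) fun x => strict (act He.table x a) fun a' =>
    strict (act He.table x b) fun b' => pull f a' b') = _
  rw [strict_eq, strict_eq, strict_eq]
theorem push_zero (a q : ℕ) : push 0 a q = q := rfl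
theorem push_succ (f a q : ℕ) : push (f + 1) a q =
    bif Nat.beq a 0 then q else act He.table (sel a) (push f (act He.table (sel a) a) q) := by
  show (bif Nat.beq a 0 then q else strict (sel a) fun x => strict (act He.table x a) fun a' =>
    strict (push f a' q) fun r => act He.table x r) = _
  rw [strict_eq, strict_eq, strict_eq]

theorem pi_gen {x : ℕ} (hx : x < 7) (k : Fin 2058) :
    ((He.π (He.g x) k : Fin 2058) : ℕ) = act He.table x k := by
  have h := ev_apply [x] (fun y hy => by simp at hy; omega) k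
  simpa [ev, scan_cons, scan_nil] using h

theorem gen_sq {x : ℕ} (hx : x < 7) : He.g x * He.g x = 1 := by
  have h := He.hinv x (by omega)
  rw [He.linv_eq x (by omega)] at h
  nth_rewrite 2 [h]
  rw [mul_inv_cancel]

theorem path_spec : ∀ (f : ℕ) (a : Fin 2058), reach f a = true →
    ∃ u : Cfsg.Spor.He, He.π u ⟨0, by omega⟩ = a ∧
      (∀ b : Fin 2058, pull f a b = He.lab.get 20 (He.π u⁻¹ b : Fin 2058)) ∧
      ∀ q : Fin 2058, push f a q = ((He.π u q : Fin 2058) : ℕ) := by
  intro f
  induction f with
  | zero =>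
    intro a h
    rw [reach_zero, Nat.beq_eq] at h
    refine ⟨1, by rw [map_one]; exact Fin.ext h.symm, fun b => ?_, fun q => ?_⟩
    · rw [pull_zero, inv_one, map_one]; rfl
    · rw [push_zero, map_one]; rfl
  | succ f ih =>
    intro a h
    rw [reach_succ] at h
    by_cases h0 : (a : ℕ) = 0
    · refine ⟨1, by rw [map_one]; exact Fin.ext h0.symm, fun b => ?_, fun q => ?_⟩
      · rw [pull_succ, show Nat.beq (a : ℕ) 0 = true from Nat.beq_eq.symm ▸ h0, inv_one, map_one]; rfl
      · rw [push_succ, show Nat.beq (a : ℕ) 0 = true from Nat.beq_eq.symm ▸ h0, map_one]; rfl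
    · have hb : Nat.beq (a : ℕ) 0 = false := Bool.eq_false_iff.2 fun e => h0 (Nat.eq_of_beq_eq_true e)
      rw [hb, Bool.false_or, Bool.and_eq_true, Nat.blt_eq] at h
      obtain ⟨hx, hr⟩ := h
      rw [← pi_gen hx] at hr
      obtain ⟨u, hu, hpull, hpush⟩ := ih _ hr
      refine ⟨He.g (sel a) * u, ?_, fun b => ?_, fun q => ?_⟩
      · rw [map_mul, Equiv.Perm.mul_apply, hu, ← Equiv.Perm.mul_apply, ← map_mul, gen_sq hx, map_one]
        rfl
      · rw [pull_succ, hb, cond_false, ← pi_gen hx, ← pi_gen hx, hpull, mul_inv_rev, map_mul,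
          inv_eq_of_mul_eq_one_left (gen_sq hx), Equiv.Perm.mul_apply]
      · rw [push_succ, hb, cond_false, ← pi_gen hx, hpush, map_mul, Equiv.Perm.mul_apply, ← pi_gen hx]

theorem reachOK_0 : allFrom (fun k => reach 64 k) 1024 0 = true := by decide +kernel
theorem reachOK_1024 : allFrom (fun k => reach 64 k) 1024 1024 = true := by decide +kernel
theorem reachOK_2048 : allFrom (fun k => reach 64 k) 10 2048 = true := by decide +kernel

theorem reach_ok (a : Fin 2058) : reach 64 a = true := by
  rcases Nat.lt_or_ge (a : ℕ) 1024 with h | h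
  · exact allFrom_spec _ _ _ reachOK_0 a (Nat.zero_le _) (by omega)
  rcases Nat.lt_or_ge (a : ℕ) 2048 with h' | h'
  · exact allFrom_spec _ _ _ reachOK_1024 a h (by omega)
  · exact allFrom_spec _ _ _ reachOK_2048 a h' (by omega)

theorem mem_H_of_fix {z : Cfsg.Spor.He} (hz : He.π z ⟨0, by omega⟩ = ⟨0, by omega⟩) : z ∈ He.H := by
  have hn : 0 < 2058 := by omega
  have hbij := cosetPt_bijective hn He.π He.H He.covers (He.sub_fix hn) (He.transitive hn)
  have h1 : ((z : Cfsg.Spor.He) : Cfsg.Spor.He ⧸ He.H) = ((1 : Cfsg.Spor.He) : Cfsg.Spor.He ⧸ He.H) :=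
    hbij.1 (by rw [cosetPt_mk, cosetPt_mk, map_one, Equiv.Perm.one_apply]; exact hz)
  simpa using QuotientGroup.eq.mp h1.symm

/-- The orbital label of a pair of points. -/
noncomputable def lbl (a b : ℕ) : ℕ := pull 64 a b

theorem lbl_move (g : Cfsg.Spor.He) (a b : Fin 2058) :
    lbl (He.π g a : Fin 2058) (He.π g b : Fin 2058) = lbl a b := by
  obtain ⟨u, hu, hp, -⟩ := path_spec 64 a (reach_ok a)
  obtain ⟨u', hu', hp', -⟩ := path_spec 64 _ (reach_ok (He.π g a))
  have hmem : u'⁻¹ * g * u ∈ He.H := mem_H_of_fix (by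
    rw [map_mul, map_mul, Equiv.Perm.mul_apply, Equiv.Perm.mul_apply, hu, ← hu', map_inv,
      Equiv.Perm.inv_def, Equiv.symm_apply_apply])
  have e := label_invariant He.π He.H He.subTable He.sub_spec.2 He.lab He.orbPar He.root He.orbit_ok _ hmem
    (He.π u⁻¹ b)
  show pull 64 _ _ = pull 64 a b
  rw [hp, hp', ← e, ← Equiv.Perm.mul_apply, ← map_mul, ← Equiv.Perm.mul_apply, ← map_mul]
  congr 4
  group

theorem exists_of_lbl (a b : Fin 2058) :
    ∃ q : Fin 2058, He.lab.get 20 q = lbl a b ∧ push 64 a q = b := by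
  obtain ⟨u, -, hp, hq⟩ := path_spec 64 a (reach_ok a)
  refine ⟨He.π u⁻¹ b, (hp b).symm, ?_⟩
  rw [hq, ← Equiv.Perm.mul_apply, ← map_mul, mul_inv_cancel, map_one]
  rfl

/-- The successive images of a point under a word. -/
noncomputable def cyc (r : List ℕ) : ℕ → ℕ → List ℕ :=
  Nat.rec (motive := fun _ => ℕ → List ℕ) (fun _ => [])
    (fun _ ih a => a :: strict (scan He.table r a) fun a' => ih a')

theorem cyc_zero (r : List ℕ) (a : ℕ) : cyc r 0 a = [] := rfl

theorem cyc_succ (r : List ℕ) (m a : ℕ) : cyc r (m + 1) a = a :: cyc r m (scan He.table r a) := by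
  show a :: strict (scan He.table r a) (fun a' => cyc r m a') = _
  rw [strict_eq]

/-- All labels from the listed points match. -/
noncomputable def matchB : List ℕ → List ℕ → ℕ → Bool
  | c :: cs, l :: ls, b => Nat.beq (lbl c b) l && matchB cs ls b
  | _, _, _ => true

/-- The labels of a point from the listed points. -/
noncomputable def vecL (cs : List ℕ) (b : ℕ) : List ℕ := cs.map fun c => lbl c b

theorem matchB_vecL : ∀ (cs : List ℕ) (b : ℕ), matchB cs (vecL cs b) b = true
  | [], _ => rfl
  | c :: cs, b => by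
    rw [vecL, List.map_cons, matchB, Bool.and_eq_true, Nat.beq_eq]
    exact ⟨rfl, matchB_vecL cs b⟩

theorem cyc_move {v w g : Cfsg.Spor.He} (hg : g * v = w * g) {rv rw' : List ℕ}
    (hv : ∀ k : Fin 2058, ((He.π v k : Fin 2058) : ℕ) = scan He.table rv k)
    (hw : ∀ k : Fin 2058, ((He.π w k : Fin 2058) : ℕ) = scan He.table rw' k) :
    ∀ (m : ℕ) (a b : Fin 2058),
      vecL (cyc rw' m (He.π g a : Fin 2058)) (He.π g b : Fin 2058) = vecL (cyc rv m a) b
  | 0, _, _ => by simp only [cyc_zero, vecL, List.map_nil]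
  | m + 1, a, b => by
    rw [cyc_succ, cyc_succ, vecL, vecL, List.map_cons, List.map_cons, lbl_move, ← hw, ← hv]
    refine congrArg (List.cons _) ?_
    rw [← Equiv.Perm.mul_apply, ← map_mul, ← hg, map_mul, Equiv.Perm.mul_apply]
    exact cyc_move hg hv hw m (He.π v a) b

theorem cyc_fix {v h : Cfsg.Spor.He} (hh : h * v = v * h) {rv : List ℕ}
    (hv : ∀ k : Fin 2058, ((He.π v k : Fin 2058) : ℕ) = scan He.table rv k) {m : ℕ} {a b : Fin 2058}
    (ha : He.π h a = a) : vecL (cyc rv m a) (He.π h b : Fin 2058) = vecL (cyc rv m a) b := by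
  have e := cyc_move hh hv hv m a b
  rwa [ha] at e

end CfsgLib.HeAut
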