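import Cfsg.Agent.Lib.HeAut.ChecksX
import Cfsg.Agent.Lib.HeAut.ChecksInter
import Cfsg.Agent.Lib.HeAut.ChecksZ
import Cfsg.Agent.Lib.CosetEnum.He.Simple
import Cfsg.Agent.Lib.M24Elt.AutCheck
import Cfsg.Prelude.Def_KGroupFacts

/-! The outer automorphism group of the Held group has order two. -/

set_option autoImplicit false

namespace CfsgLib.HeAut

open Cfsg CfsgLib.CosetEnum CfsgLib.HeWord

/-- The element of order 17. -/
noncomputable def X : Cfsg.Spor.He := ev xW
/-- The element of order 8. -/
noncomputable def Z : Cfsg.Spor.He := ev zW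
/-- The involution. -/
noncomputable def S : Cfsg.Spor.He := ev sW

theorem ev_nil : ev [] = 1 := rfl

theorem ev_replicate (w : List ℕ) : ∀ n : ℕ, ev (List.replicate n w).flatten = ev w ^ n
  | 0 => by rw [List.replicate_zero, List.flatten_nil, ev_nil, pow_zero]
  | n + 1 => by rw [List.replicate_succ, List.flatten_cons, ev_append, ev_replicate w n, pow_succ']

theorem X_pow17 : X ^ 17 = 1 := by
  have h : eqW (List.replicate 17 xW).flatten [] = true := by decide +kernel
  rw [X, ← ev_replicate, eqW_spec h, ev_nil]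

theorem X_ne : X ≠ 1 := by
  have h : neW xW [] = true := by decide +kernel
  exact neW_spec h

theorem orderOf_X : orderOf X = 17 := by
  have : Fact (Nat.Prime 17) := ⟨by norm_num⟩
  exact orderOf_eq_prime X_pow17 X_ne

theorem Z_mul_X : Z * X = X ^ 2 * Z := by
  have h : eqW (zW ++ xW) ((List.replicate 2 xW).flatten ++ zW) = true := by decide +kernel
  have e := eqW_spec h
  rwa [ev_append, ev_append, ev_replicate] at e

theorem Z_mul_X_pow (j : ℕ) : Z * X ^ j = X ^ (2 * j) * Z := by
  induction j with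
  | zero => simp
  | succ j ih => rw [pow_succ, ← mul_assoc, ih, mul_assoc, Z_mul_X, ← mul_assoc, ← pow_add, mul_add, mul_one]

theorem Z_pow_mul_X (t j : ℕ) : Z ^ t * X ^ j = X ^ (2 ^ t * j) * Z ^ t := by
  induction t with
  | zero => simp
  | succ t ih =>
    rw [pow_succ' Z, mul_assoc, ih, ← mul_assoc, Z_mul_X_pow, mul_assoc]
    congr 2
    rw [pow_succ']
    ring

theorem X_pow_mod (j : ℕ) : X ^ (j % 17) = X ^ j := by rw [← orderOf_X, pow_mod_orderOf]

theorem slide_check : centX.els.all (fun e => (List.range 17).any fun m =>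
    eqW (zW ++ e.2 ++ (List.replicate m xW).flatten) ((List.replicate m xW).flatten ++ zW)) = true := by
  decide +kernel

/-- An element acting on `X` as `Z` does is conjugate to `Z` by a power of `X`. -/
theorem exists_slide {u : Cfsg.Spor.He} (hu : u * X = X ^ 2 * u) : ∃ m : ℕ, u * X ^ m = X ^ m * Z := by
  have hc : Z⁻¹ * u * ev centX.vW = ev centX.wW * (Z⁻¹ * u) := by
    show Z⁻¹ * u * X = X * (Z⁻¹ * u)
    have hz : Z⁻¹ * X ^ 2 = X * Z⁻¹ := by
      rw [inv_mul_eq_iff_eq_mul, ← mul_assoc, Z_mul_X, mul_inv_cancel_right]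
    rw [mul_assoc, hu, ← mul_assoc, hz, mul_assoc]
  obtain ⟨e, he, hew⟩ := centX.complete centX_valid hc
  have h := List.all_eq_true.1 slide_check e he
  obtain ⟨m, -, hm⟩ := List.any_eq_true.1 h
  refine ⟨m, ?_⟩
  have e' := eqW_spec hm
  rw [ev_append, ev_append, ev_append, ev_replicate] at e'
  rw [← show Z * ev e.2 = u from by rw [← hew, mul_inv_cancel_left]]
  exact e'

/-- Images of the three elements. -/
def triple (e : ℕ) (k : List ℕ) : List (List ℕ) := [(List.replicate e xW).flatten, zW, k]

theorem hom_flat {M : Type*} [Monoid M] (f : Cfsg.Spor.He →* M) (L : List (List ℕ)) (w : List ℕ) :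
    f (ev (flat L w)) = (w.map fun a => f (ev (L.getD a []))).prod := by
  rw [← ev_flat, map_list_prod, List.map_map]
  rfl

theorem gen_word_check : (List.range 7).all (fun j => eqW (flat [xW, zW, sW] (genW.getD j [])) [j]) = true := by
  decide +kernel

theorem g_eq (j : ℕ) (hj : j < 7) :
    He.g j = ((genW.getD j []).map fun a => ev ([xW, zW, sW].getD a [])).prod := by
  have h := List.all_eq_true.1 gen_word_check j (List.mem_range.2 hj)
  rw [ev_flat, eqW_spec h, ev, List.map_singleton, List.prod_singleton]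

theorem hom_ext_xzs {M : Type*} [Monoid M] {f f' : Cfsg.Spor.He →* M} (hX : f X = f' X) (hZ : f Z = f' Z)
    (hS : f S = f' S) : f = f' := by
  have hL : ∀ a, f (ev ([xW, zW, sW].getD a [])) = f' (ev ([xW, zW, sW].getD a []))
    | 0 => hX
    | 1 => hZ
    | 2 => hS
    | n + 3 => by
      rw [List.getD_eq_default _ _ (by simp), ev_nil, map_one, map_one]
  refine MonoidHom.eq_of_eqOn_dense (s := He.g '' Set.Iio 16) (top_le_iff.1 He.translation.closure_top) ?_
  rintro _ ⟨j, hj, rfl⟩
  rcases He.gen_or_one j hj with h7 | h1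
  · rw [g_eq j h7, map_list_prod, map_list_prod, List.map_map, List.map_map]
    exact congrArg List.prod (List.map_congr_left fun a _ => hL a)
  · rw [h1, map_one, map_one]

theorem S_mul_Z : S * Z = ev interZ.wW * S := by
  have h : eqW (sW ++ zW) (interZ.wW ++ sW) = true := by decide +kernel
  have e := eqW_spec h
  rwa [ev_append, ev_append] at e

theorem interW_eq : ev interZ.wW = Z ^ 3 := by
  have h : eqW interZ.wW (List.replicate 3 zW).flatten = true := by decide +kernel
  rw [eqW_spec h, ev_replicate]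
  rfl

theorem exponent_check : (List.range 17).all (fun j => Nat.beq j 0 ||
    (List.range 8).any fun t => Nat.beq (2 ^ t * j % 17) 1 || Nat.beq (2 ^ t * j % 17) 3) = true := by
  decide +kernel

/-- Check that a possible image triple is one of the two or breaks a relation. -/
noncomputable def pairB (e k : ℕ) : Bool :=
  goodTab.contains (e, k) ||
    relW.any fun r => neW (flat (triple e (interZ.els.getD k (0, [])).2) r) []

theorem pair_check : (List.range interZ.els.length).all (fun k => pairB 1 k && pairB 3 k) = true := by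
  decide +kernel

theorem rel_check : relW.all (fun r => eqW (flat [xW, zW, sW] r) []) = true := by decide +kernel

/-- The possible images of the three elements. -/
noncomputable def image (g : ℕ × ℕ) : Cfsg.Spor.He × Cfsg.Spor.He × Cfsg.Spor.He :=
  (X ^ g.1, Z, ev (interZ.els.getD g.2 (0, [])).2)

theorem normalise (φ : MulAut Cfsg.Spor.He) : ∃ h : Cfsg.Spor.He, ∃ i : Fin goodTab.length,
    ((MulAut.conj h * φ) X, (MulAut.conj h * φ) Z, (MulAut.conj h * φ) S) = image goodTab[i] := by
  haveI := He.finite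
  have : Fact (Nat.Prime 17) := ⟨by norm_num⟩
  obtain ⟨c, hc⟩ := CfsgLib.M24Elt.AutBound.exists_conj_mem (S := Subgroup.zpowers X) (p := 17) (k := 1)
    (by rw [Nat.card_zpowers, orderOf_X, pow_one]) (by rw [He.card_group]; norm_num)
    ((φ.orderOf_eq X).trans orderOf_X)
  rw [← mem_powers_iff_mem_zpowers, Submonoid.mem_powers_iff] at hc
  obtain ⟨j, hj⟩ := hc
  have hj0 : j % 17 ≠ 0 := by
    intro h0
    have h1 : c * φ X * c⁻¹ = 1 := by rw [← hj, ← X_pow_mod, h0, pow_zero]
    rw [conj_eq_one_iff] at h1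
    exact X_ne (φ.injective (h1.trans (map_one φ).symm))
  have ht := List.all_eq_true.1 exponent_check (j % 17) (List.mem_range.2 (Nat.mod_lt _ (by norm_num)))
  simp only [Bool.or_eq_true, Nat.beq_eq, hj0, false_or, List.any_eq_true] at ht
  obtain ⟨t, -, ht⟩ := ht
  obtain ⟨e, he, het⟩ : ∃ e, (e = 1 ∨ e = 3) ∧ 2 ^ t * (j % 17) % 17 = e := ⟨_, ht, rfl⟩
  set ψ : MulAut Cfsg.Spor.He := MulAut.conj (Z ^ t * c) * φ with hψdef
  have hψ : ψ X = X ^ e := by
    have h1 : ψ X = Z ^ t * (c * φ X * c⁻¹) * (Z ^ t)⁻¹ := by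
      rw [hψdef, MulAut.mul_apply, MulAut.conj_apply]; group
    rw [h1, ← hj, ← X_pow_mod j, Z_pow_mul_X, mul_inv_cancel_right, ← X_pow_mod, het]
  have hu : ψ Z * X = X ^ 2 * ψ Z := by
    obtain ⟨r, hr⟩ : ∃ r, e * r % 17 = 1 := by
      rcases he with rfl | rfl
      · exact ⟨1, rfl⟩
      · exact ⟨6, rfl⟩
    have h1 : ψ Z * X ^ (e * r) = X ^ (e * (2 * r)) * ψ Z := by
      have h := congrArg ψ (Z_mul_X_pow r)
      rw [map_mul, map_mul, map_pow, map_pow, hψ] at h
      rwa [← pow_mul, ← pow_mul] at h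
    rw [← X_pow_mod, hr, pow_one] at h1
    rw [h1]
    congr 1
    rw [show e * (2 * r) = 2 * (e * r) by ring, mul_comm 2, pow_mul, ← X_pow_mod (e * r), hr, pow_one]
  obtain ⟨m, hm⟩ := exists_slide hu
  set χ : MulAut Cfsg.Spor.He := MulAut.conj (X ^ m)⁻¹ * ψ with hχdef
  have hχX : χ X = X ^ e := by
    rw [hχdef, MulAut.mul_apply, hψ, MulAut.conj_apply, inv_inv, mul_assoc, ← pow_add, add_comm, pow_add,
      inv_mul_cancel_left]
  have hχZ : χ Z = Z := by
    rw [hχdef, MulAut.mul_apply, MulAut.conj_apply, inv_inv, mul_assoc, hm, inv_mul_cancel_left]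
  have hS : χ S * ev interZ.vW = ev interZ.wW * χ S := by
    show χ S * Z = ev interZ.wW * χ S
    conv_lhs => rw [← hχZ, ← map_mul, S_mul_Z, interW_eq, map_mul, map_pow, hχZ]
    rw [interW_eq]
  obtain ⟨el, hel, helS⟩ := interZ.complete interZ_valid hS
  obtain ⟨k, hk, rfl⟩ := List.mem_iff_getElem.1 hel
  refine ⟨(X ^ m)⁻¹ * (Z ^ t * c), ?_⟩
  rw [show MulAut.conj ((X ^ m)⁻¹ * (Z ^ t * c)) * φ = χ by rw [hχdef, hψdef, map_mul, mul_assoc]]
  have hget : (interZ.els.getD k (0, [])) = interZ.els[k] := List.getD_eq_getElem ..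
  have hpc := List.all_eq_true.1 pair_check k (List.mem_range.2 hk)
  rw [Bool.and_eq_true] at hpc
  have hp : pairB e k = true := by rcases he with rfl | rfl <;> [exact hpc.1; exact hpc.2]
  rw [pairB, Bool.or_eq_true, List.contains_iff_mem, List.any_eq_true] at hp
  rcases hp with hp | ⟨r, hr, hne⟩
  · obtain ⟨i, hi, hie⟩ := List.mem_iff_getElem.1 hp
    refine ⟨⟨i, hi⟩, ?_⟩
    simp only [Fin.getElem_fin, hie, image, hχX, hχZ, helS, hget]
  · exfalso
    apply neW_spec hne
    have hrel := eqW_spec (List.all_eq_true.1 rel_check r hr)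
    rw [← ev_flat] at hrel
    have h2 := congrArg χ.toMonoidHom hrel
    rw [map_list_prod, List.map_map, ev_nil, map_one] at h2
    rw [← ev_flat, ev_nil, ← h2, hget]
    refine congrArg List.prod (List.map_congr_left fun a _ => ?_)
    show _ = χ (ev ([xW, zW, sW].getD a []))
    match a with
    | 0 => exact (ev_replicate xW e).trans hχX.symm
    | 1 => exact hχZ.symm
    | 2 => exact helS.symm
    | n + 3 =>
      rw [List.getD_eq_default _ _ (by simp [triple]), List.getD_eq_default _ _ (by simp), ev_nil, map_one]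

theorem goodTab_length : goodTab.length = 2 := rfl

theorem card_out_le_two : Nat.card (Out Cfsg.Spor.He) ≤ 2 := by
  haveI := He.finite
  classical
  have hrep : ∀ q : Out Cfsg.Spor.He, ∃ i : Fin goodTab.length, ∃ φ : MulAut Cfsg.Spor.He,
      QuotientGroup.mk φ = q ∧ (φ X, φ Z, φ S) = image goodTab[i] := by
    intro q
    obtain ⟨φ, rfl⟩ := QuotientGroup.mk_surjective q
    obtain ⟨h, i, hi⟩ := normalise φ
    refine ⟨i, MulAut.conj h * φ, ?_, hi⟩
    rw [QuotientGroup.mk_mul,
      (QuotientGroup.eq_one_iff (N := Inn Cfsg.Spor.He) (MulAut.conj h)).2 ⟨h, rfl⟩, one_mul]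
  choose f φ hφ using hrep
  have hinj : Function.Injective f := by
    intro a b hab
    have e := (hφ a).2.trans ((congrArg (fun i : Fin goodTab.length => image goodTab[i]) hab).trans (hφ b).2.symm)
    simp only [Prod.mk.injEq] at e
    rw [← (hφ a).1, ← (hφ b).1,
      MulEquiv.toMonoidHom_injective (hom_ext_xzs (f := (φ a).toMonoidHom) (f' := (φ b).toMonoidHom) e.1 e.2.1 e.2.2)]
  have h := Nat.card_le_card_of_injective f hinj
  rwa [Nat.card_fin, goodTab_length] at h

/-- The images of the generators as free-group substitution. -/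
noncomputable def subst : FreeGroup Cfsg.Spor.He.Gen →* Cfsg.Spor.He :=
  FreeGroup.lift fun a => ev (imgW.getD (He.idx a) [])

theorem subst_gF (x : ℕ) (hx : x < 16) : subst (He.gF x) = ev (imgW.getD x []) := by
  interval_cases x
  all_goals first
    | exact FreeGroup.lift_apply_of
    | exact (map_one _).trans (by rw [List.getD_eq_default _ _ (by decide), ev_nil])

theorem img_checks : ((List.range 16).all (fun x => eqW (imgW.getD x [] ++ imgW.getD x []) []) &&
    He.ls.all fun l => eqW (flat imgW l) []) = true := by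
  decide +kernel

theorem subst_rel : ∀ r ∈ Cfsg.Spor.coxRelators Cfsg.Spor.He.edges ∪ {r | r ∈ Cfsg.Spor.He.extra}, subst r = 1 := by
  have h := img_checks
  simp only [Bool.and_eq_true, List.all_eq_true] at h
  refine He.translation.relator_eq_one subst (fun x hx => ?_) fun l hl => ?_
  · rw [He.linv_eq x hx]
    have e := eqW_spec (h.1 x (List.mem_range.2 hx))
    rw [ev_append, ev_nil] at e
    rw [subst_gF x hx]
    exact eq_inv_of_mul_eq_one_left e
  · rw [List.map_congr_left fun x hx => subst_gF x ((He.lsWords l hl).1 x hx), ev_flat, eqW_spec (h.2 l hl),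
      ev_nil]

/-- An endomorphism which is not inner. -/
noncomputable def outer : Cfsg.Spor.He →* Cfsg.Spor.He := PresentedGroup.toGroup subst_rel

theorem outer_g (x : ℕ) (hx : x < 16) : outer (He.g x) = ev (imgW.getD x []) := by
  rw [← subst_gF x hx]
  show PresentedGroup.toGroup subst_rel (PresentedGroup.mk _ (He.gF x)) = _
  generalize He.gF x = w
  induction w using FreeGroup.induction_on with
  | C1 => simp
  | of a => exact (PresentedGroup.toGroup.of subst_rel).trans (FreeGroup.lift_apply_of).symm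
  | inv_of a h => rw [map_inv, map_inv, map_inv]; exact congrArg (·⁻¹) h
  | mul u v hu hv => rw [map_mul, map_mul, map_mul]; exact congrArg₂ (· * ·) hu hv

theorem outer_ev (w : List ℕ) (hw : ∀ x ∈ w, x < 7) : outer (ev w) = ev (flat imgW w) := by
  rw [← ev_flat, ev, map_list_prod, List.map_map]
  exact congrArg List.prod (List.map_congr_left fun a ha => outer_g a (by have := hw a ha; omega))

theorem outer_check : (wordB xW && wordB zW && neW (imgW.getD 0 []) [] &&
    eqW (flat imgW xW) (List.replicate 3 xW).flatten && eqW (flat imgW zW) zW) = true := by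
  decide +kernel

theorem outer_values : outer X = X ^ 3 ∧ outer Z = Z := by
  have h := outer_check
  simp only [Bool.and_eq_true] at h
  refine ⟨?_, ?_⟩
  · rw [X, outer_ev _ (wordB_spec h.1.1.1.1), eqW_spec h.1.2, ev_replicate]
  · rw [Z, outer_ev _ (wordB_spec h.1.1.1.2), eqW_spec h.2]

theorem outer_injective : Function.Injective outer := by
  have := He.Simple.isSimple
  rcases (MonoidHom.normal_ker outer).eq_bot_or_eq_top with h | h
  · exact (MonoidHom.ker_eq_bot_iff _).1 h
  · exfalso
    have hc := outer_check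
    simp only [Bool.and_eq_true] at hc
    refine neW_spec hc.1.1.2 ?_
    rw [← outer_g 0 (by norm_num), ev_nil]
    exact MonoidHom.mem_ker.1 (h ▸ Subgroup.mem_top _)

theorem not_inner_check : centZ.els.all (fun e =>
    neW (e.2 ++ xW) ((List.replicate 3 xW).flatten ++ e.2)) = true := by
  decide +kernel

theorem two_le_card_out : 2 ≤ Nat.card (Out Cfsg.Spor.He) := by
  haveI := He.finite
  haveI : Finite (MulAut Cfsg.Spor.He) := Finite.of_injective (fun φ => (φ : Cfsg.Spor.He → Cfsg.Spor.He))
    DFunLike.coe_injective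
  let σ : MulAut Cfsg.Spor.He :=
    MulEquiv.ofBijective outer ⟨outer_injective, Finite.injective_iff_surjective.1 outer_injective⟩
  haveI : Nontrivial (Out Cfsg.Spor.He) := ⟨⟨QuotientGroup.mk σ, 1, fun h => ?_⟩⟩
  · exact Finite.one_lt_card
  · obtain ⟨g, hg⟩ := (QuotientGroup.eq_one_iff (N := Inn Cfsg.Spor.He) σ).1 h
    have hX : g * X * g⁻¹ = X ^ 3 := (DFunLike.congr_fun hg X).trans outer_values.1
    have hZ : g * Z * g⁻¹ = Z := (DFunLike.congr_fun hg Z).trans outer_values.2
    rw [mul_inv_eq_iff_eq_mul] at hX hZ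
    obtain ⟨e, he, hge⟩ := centZ.complete centZ_valid (show g * ev centZ.vW = ev centZ.wW * g from hZ)
    refine neW_spec (List.all_eq_true.1 not_inner_check e he) ?_
    rw [ev_append, ev_append, ev_replicate, ← hge]
    exact hX

theorem card_out : Nat.card (Out Cfsg.Spor.He) = 2 := le_antisymm card_out_le_two two_le_card_out

end CfsgLib.HeAut
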